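import Cfsg.Agent.H229.Asym
import Cfsg.Agent.Lib.GenFitting
import Cfsg.Agent.PLocal.SubnormalCore

/-!
# `Y_M ≤ Y_H` for `H` of characteristic `p` containing the preimage of `F*(M†/C(Y_M))` (asymmetric case)
-/

set_option autoImplicit false
open Cfsg Subgroup
open Cfsg.Agent.H230
open scoped commutatorElement

namespace Cfsg.Agent.H229

variable {G : Type*} [Group G]

/-- `T ∩ B` is Sylow in the normal subgroup `B` of `H`. -/
theorem isSylowOf_inf [Finite G] {p : ℕ} [Fact p.Prime] {T H B : Subgroup G} (hT : IsSylowOf p T H)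
    (hB : B ≤ H) (hH : H ≤ normalizer (B : Set G)) : IsSylowOf p (T ⊓ B) B := by
  obtain ⟨T', hT', h1⟩ := exists_isSylowOf_ge (p := p) (R := T ⊓ B) (A := B) inf_le_right
    (isPGroup_mono inf_le_left hT.isPGroup)
  obtain ⟨T'', hT'', h2⟩ := exists_isSylowOf_ge (hT'.le.trans hB) hT'.isPGroup
  obtain ⟨a, ha, haT⟩ := hT''.exists_conj hT
  have h3 : cj a T' ≤ T ⊓ B := by
    refine le_inf ?_ ?_
    · rw [← haT]; exact cj_mono h2
    · exact (cj_mono hT'.le).trans (cj_le_of_norm (hH ha))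
  have h4 : T' = T ⊓ B := eq_of_cj_le h3 h1
  rw [← h4]; exact hT'

/-! ### A finite group `X` with `O_p(X) = 1` -/

/-- a `p`-subgroup normalized by the subnormal overgroup `K` is trivial if `O_p(X) = 1`. -/
theorem eq_bot_of_norm {X : Type*} [Group X] {p : ℕ} (hX : pCore p X = ⊥) {K A : Subgroup X}
    (hK : K.IsSubnormal) (hA : A ≤ K) (hKA : K ≤ normalizer (A : Set X)) (hp : IsPGroup p ↥A) : A = ⊥ := by
  rw [← le_bot_iff, ← hX]
  exact PLocal.SubnormalCore.le_pCore_of_normal_subnormal hA ((normal_subgroupOf_iff_le_normalizer hA).2 hKA)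
    hK hp

theorem normal_isSubnormal {X : Type*} [Group X] {K : Subgroup X} (h : K.Normal) : K.IsSubnormal :=
  h.isSubnormal

/-- a `p`-subgroup centralizing `F*(X)` is trivial if `O_p(X) = 1`. -/
theorem eq_bot_of_cent {X : Type*} [Group X] [Finite X] {p : ℕ} (hX : pCore p X = ⊥) {A : Subgroup X}
    (hA : A ≤ centralizer (generalizedFittingSubgroup X : Set X)) (hp : IsPGroup p ↥A) : A = ⊥ := by
  have hn : (generalizedFittingSubgroup X).Normal := Lib.GenFitting.genFitting_normal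
  have hZ : centralizer (generalizedFittingSubgroup X : Set X) ≤ generalizedFittingSubgroup X :=
    Lib.GenFitting.centralizer_genFitting_le
  refine eq_bot_of_norm hX (normal_isSubnormal (K := centralizer (generalizedFittingSubgroup X : Set X))
    inferInstance) hA ?_ hp
  refine le_trans ?_ (centralizer_le_norm A)
  apply le_centralizer_comm
  refine hA.trans ?_
  exact Subgroup.centralizer_le hZ

/-! ### Images in `D / (C ∩ D)` -/

section Quot

variable {p : ℕ} {D C K L : Subgroup G} [hn : (C.subgroupOf D).Normal]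

/-- the image of `K ∩ D` in `D / (C ∩ D)` -/
def qm (D C K : Subgroup G) [(C.subgroupOf D).Normal] : Subgroup (↥D ⧸ C.subgroupOf D) :=
  (K.subgroupOf D).map (QuotientGroup.mk' (C.subgroupOf D))

theorem mk_mem_qm {x : G} (hx : x ∈ K) (hxD : x ∈ D) :
    QuotientGroup.mk' (C.subgroupOf D) ⟨x, hxD⟩ ∈ qm D C K := ⟨⟨x, hxD⟩, mem_subgroupOf.2 hx, rfl⟩

theorem mk_eq_one_iff {x : ↥D} : QuotientGroup.mk' (C.subgroupOf D) x = 1 ↔ (x : G) ∈ C := by
  rw [QuotientGroup.mk'_apply, QuotientGroup.eq_one_iff, mem_subgroupOf]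

theorem le_of_qm_eq_bot (hK : K ≤ D) (h : qm D C K = ⊥) : K ≤ C := by
  intro x hx
  have h1 := mk_mem_qm (C := C) hx (hK hx)
  rw [h, mem_bot, mk_eq_one_iff] at h1
  exact h1

theorem qm_isPGroup (h : ∀ a ∈ K, ∃ k : ℕ, a ^ p ^ k ∈ C) : IsPGroup p ↥(qm D C K) := by
  rintro ⟨_, a, ha, rfl⟩
  obtain ⟨k, hk⟩ := h a (mem_subgroupOf.1 ha)
  refine ⟨k, Subtype.ext ?_⟩
  show (QuotientGroup.mk' (C.subgroupOf D) a) ^ p ^ k = 1
  rw [← map_pow, mk_eq_one_iff]
  simpa using hk

theorem qm_norm (h : L ≤ normalizer (K : Set G)) : qm D C L ≤ normalizer (qm D C K : Set (↥D ⧸ C.subgroupOf D)) := by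
  rw [le_norm_iff]
  rintro _ ⟨l, hl, rfl⟩ _ ⟨k, hk, rfl⟩
  refine ⟨l * k * l⁻¹, ?_, by simp⟩
  exact (le_norm_iff.1 h) l (mem_subgroupOf.1 hl) k (mem_subgroupOf.1 hk)

theorem qm_cent (h : ⁅L, K⁆ ≤ C) : qm D C K ≤ centralizer (qm D C L : Set (↥D ⧸ C.subgroupOf D)) := by
  rintro _ ⟨k, hk, rfl⟩
  rw [mem_centralizer_iff]
  rintro _ ⟨l, hl, rfl⟩
  have h1 : ⁅(l : G), (k : G)⁆ ∈ C := h (commutator_mem_commutator (mem_subgroupOf.1 hl) (mem_subgroupOf.1 hk))
  have h2 : QuotientGroup.mk' (C.subgroupOf D) ⁅l, k⁆ = 1 := mk_eq_one_iff.2 h1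
  rw [map_commutatorElement, commutatorElement_eq_one_iff_mul_comm] at h2
  exact h2

theorem qm_map_comap (W : Subgroup (↥D ⧸ C.subgroupOf D)) :
    qm D C ((W.comap (QuotientGroup.mk' (C.subgroupOf D))).map D.subtype) = W := by
  have h1 : ((W.comap (QuotientGroup.mk' (C.subgroupOf D))).map D.subtype).subgroupOf D =
      W.comap (QuotientGroup.mk' (C.subgroupOf D)) :=
    Subgroup.comap_map_eq_self_of_injective D.subtype_injective _
  unfold qm
  rw [h1, Subgroup.map_comap_eq_self_of_surjective (QuotientGroup.mk'_surjective _)]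

theorem quot_pCore_eq_bot (h : ∀ B : Subgroup G, B ≤ D → D ≤ normalizer (B : Set G) →
    (∀ b ∈ B, ∃ k : ℕ, b ^ p ^ k ∈ C) → B ≤ C) : pCore p (↥D ⧸ C.subgroupOf D) = ⊥ := by
  have hN := Lib.Cores.pCore_normal (G := ↥D ⧸ C.subgroupOf D) p
  have h1 := h (((pCore p (↥D ⧸ C.subgroupOf D)).comap (QuotientGroup.mk' (C.subgroupOf D))).map D.subtype)
    (Subgroup.map_subtype_le _) ?_ ?_
  · rw [Subgroup.eq_bot_iff_forall]
    intro q hq
    obtain ⟨x, rfl⟩ := QuotientGroup.mk'_surjective _ q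
    rw [mk_eq_one_iff]
    exact h1 ⟨x, hq, rfl⟩
  · rw [← normal_map_iff]
    exact hN.comap _
  · rintro _ ⟨x, hx, rfl⟩
    obtain ⟨k, hk⟩ := Lib.Cores.pCore_isPGroup p ⟨_, hx⟩
    refine ⟨k, ?_⟩
    have h5 : (QuotientGroup.mk' (C.subgroupOf D) x) ^ p ^ k = 1 := congrArg Subtype.val hk
    rw [← map_pow, mk_eq_one_iff] at h5
    simpa using h5

end Quot

/-! ### The theorem -/

/-- the preimage in `D` of `F*(D/C)`. -/
def fpre (D C : Subgroup G) [(C.subgroupOf D).Normal] : Subgroup G :=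
  ((generalizedFittingSubgroup (↥D ⧸ C.subgroupOf D)).comap (QuotientGroup.mk' (C.subgroupOf D))).map D.subtype

section Fpre

variable {p : ℕ} {D C : Subgroup G} [hn : (C.subgroupOf D).Normal]

theorem fpre_le : fpre D C ≤ D := Subgroup.map_subtype_le _

theorem le_fpre (hC : C ≤ D) : C ≤ fpre D C := by
  intro x hx
  refine ⟨⟨x, hC hx⟩, ?_, rfl⟩
  show QuotientGroup.mk' (C.subgroupOf D) ⟨x, hC hx⟩ ∈ generalizedFittingSubgroup (↥D ⧸ C.subgroupOf D)
  rw [mk_eq_one_iff.2 hx]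
  exact one_mem _

theorem le_norm_fpre : D ≤ normalizer (fpre D C : Set G) := by
  unfold fpre
  rw [← normal_map_iff]
  have : (generalizedFittingSubgroup (↥D ⧸ C.subgroupOf D)).Normal := Lib.GenFitting.genFitting_normal
  exact this.comap _

/-- a `p`-subgroup (mod `C`) of `D` centralizing `F` modulo `C` lies in `C`. -/
theorem le_of_comm_fpre [Finite G] (h : pCore p (↥D ⧸ C.subgroupOf D) = ⊥) {B : Subgroup G} (hB : B ≤ D)
    (hBp : ∀ a ∈ B, ∃ k : ℕ, a ^ p ^ k ∈ C) (hc : ⁅fpre D C, B⁆ ≤ C) : B ≤ C := by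
  apply le_of_qm_eq_bot hB
  apply eq_bot_of_cent h _ (qm_isPGroup hBp)
  have h1 := qm_cent (D := D) hc
  rwa [fpre, qm_map_comap] at h1

/-- a `p`-subgroup (mod `C`) of `F` normalized by `F` lies in `C`. -/
theorem le_of_norm_fpre [Finite G] (h : pCore p (↥D ⧸ C.subgroupOf D) = ⊥) {B : Subgroup G}
    (hB : B ≤ fpre D C) (hBp : ∀ a ∈ B, ∃ k : ℕ, a ^ p ^ k ∈ C)
    (hc : fpre D C ≤ normalizer (B : Set G)) : B ≤ C := by
  apply le_of_qm_eq_bot (hB.trans fpre_le)
  have hn2 : (generalizedFittingSubgroup (↥D ⧸ C.subgroupOf D)).Normal := Lib.GenFitting.genFitting_normal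
  have h1 := qm_norm (D := D) (C := C) hc
  rw [fpre, qm_map_comap] at h1
  have h2 : qm D C B ≤ generalizedFittingSubgroup (↥D ⧸ C.subgroupOf D) := by
    rw [← qm_map_comap (generalizedFittingSubgroup (↥D ⧸ C.subgroupOf D))]
    exact Subgroup.map_mono (fun x hx => hB hx)
  exact eq_bot_of_norm h (normal_isSubnormal hn2) h2 h1 (qm_isPGroup hBp)

end Fpre

theorem pow_mem_of_isPGroup {p : ℕ} {B : Subgroup G} (C : Subgroup G) (h : IsPGroup p ↥B) :
    ∀ a ∈ B, ∃ k : ℕ, a ^ p ^ k ∈ C := by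
  intro a ha
  obtain ⟨k, hk⟩ := h ⟨a, ha⟩
  have hk' : a ^ p ^ k = 1 := congrArg Subtype.val hk
  exact ⟨k, by rw [hk']; exact one_mem _⟩

namespace Setup

variable {p : ℕ} {S : Sylow p G} {Q M : Subgroup G} [Finite G] [Fact p.Prime]

omit [Finite G] [Fact p.Prime] in
theorem quot_core (h : Setup p S Q M)
    [hn : ((centralizer (largestPReducedOf p M : Set G)).subgroupOf (dag p M)).Normal] :
    pCore p (↥(dag p M) ⧸ (centralizer (largestPReducedOf p M : Set G)).subgroupOf (dag p M)) = ⊥ := by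
  apply quot_pCore_eq_bot
  intro B hB hN hk
  have h1 := (pRed_largest p (dag p M)).2.2.2 B hB hN
  rw [h.largest_dag] at h1
  exact h1 hk

/-- S2851 -/
theorem largest_le_largest (h : Setup p S Q M) (ha : ¬ IsSymmetricIn (largestPReducedOf p M))
    [hn : ((centralizer (largestPReducedOf p M : Set G)).subgroupOf (dag p M)).Normal] {H : Subgroup G}
    (hFH : fpre (dag p M) (centralizer (largestPReducedOf p M : Set G)) ≤ H) (hH : ChP p H) :
    largestPReducedOf p M ≤ largestPReducedOf p H := by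
  have hq := h.quot_core
  set Y := largestPReducedOf p M with hY
  set C := centralizer (Y : Set G) with hC
  set D := dag p M with hD
  set F := fpre D C with hF
  have hCD : C ≤ D := le_sup_right
  have hCF : C ≤ F := le_fpre hCD
  have hPC : pCoreOf p M ≤ C := pCoreOf_le_centralizer_largest p M
  have hPH : pCoreOf p M ≤ H := (hPC.trans hCF).trans hFH
  obtain ⟨T, hT, hPT⟩ := exists_isSylowOf_ge (p := p) hPH (isPGroup_pCoreOf p M)
  have hTD : T ≤ D := h.le_dag_of_core_le ha hT.isPGroup hPT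
  have hDF : D ≤ normalizer (F : Set G) := le_norm_fpre
  -- `O_p(H) ≤ C`
  have h1 : pCoreOf p H ≤ C := by
    have hOT := pCoreOf_le_of_isSylowOf hT
    refine le_of_comm_fpre hq (hOT.trans hTD) (pow_mem_of_isPGroup C (isPGroup_pCoreOf p H)) ?_
    have h2 : ⁅F, pCoreOf p H⁆ ≤ pCoreOf p H ⊓ F := by
      refine le_inf (le_norm_iff_comm_le.1 (hFH.trans (le_norm_pCoreOf p H))) ?_
      rw [commutator_comm]
      exact le_norm_iff_comm_le.1 ((hOT.trans hTD).trans hDF)
    refine h2.trans ((pCoreOf_inf_le hFH).trans ?_)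
    refine (pCoreOf_le_pCoreOf fpre_le hDF).trans ?_
    have h3 := pCoreOf_le_centralizer_largest p D
    rw [h.largest_dag] at h3
    exact h3
  have hYH : Y ≤ H := (largest_le_pCoreOf p M).trans hPH
  have h2 : Y ≤ zOmega p (pCoreOf p H) := by
    intro y hy
    have h3 : y ∈ centralizer (pCoreOf p H : Set G) := le_centralizer_comm h1 hy
    exact ⟨hH ⟨hYH hy, h3⟩, h3, (largest_ea p M).2 y hy⟩
  have hHz : H ≤ normalizer (zOmega p (pCoreOf p H) : Set G) :=
    (le_norm_pCoreOf p H).trans (norm_le_norm_zOmega p _)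
  refine (le_ncl H Y).trans (le_largest ⟨ncl_le_self hYH, le_norm_ncl H Y,
    ea_mono (ea_zOmega p _) (ncl_le hHz h2), ?_⟩)
  intro B hBH hHB hB
  have hTB := isSylowOf_inf hT hBH hHB
  have hCV : centralizer (ncl H Y : Set G) ≤ C := cent_mono (le_ncl H Y)
  have h3 : T ⊓ B ≤ C := by
    refine le_of_comm_fpre hq (inf_le_left.trans hTD) (pow_mem_of_isPGroup C hTB.isPGroup) ?_
    have h4 : ⁅F, T ⊓ B⁆ ≤ F ⊓ B := by
      refine le_inf ?_ ?_
      · rw [commutator_comm]
        exact le_norm_iff_comm_le.1 ((inf_le_left.trans hTD).trans hDF)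
      · exact (commutator_mono le_rfl inf_le_right).trans (le_norm_iff_comm_le.1 (hFH.trans hHB))
    refine h4.trans ?_
    refine le_of_norm_fpre hq inf_le_left ?_ ?_
    · intro a ha
      obtain ⟨k, hk⟩ := hB a ha.2
      exact ⟨k, hCV hk⟩
    · refine le_trans ?_ (norm_inf_le _ _)
      exact le_inf le_normalizer (hFH.trans hHB)
  have h4 : B ≤ centralizer (Y : Set G) := le_centralizer_of_sylow (le_ncl H Y) hB hTB h3
  apply le_centralizer_comm
  exact ncl_le (hHB.trans (norm_le_norm_centralizer B)) (le_centralizer_comm h4)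

end Setup

end Cfsg.Agent.H229
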