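import Cfsg.Agent.H229.Asym

/-!
# The family `ℌ_G(O_p(M))` for `Y_M` char-`p`-tall and asymmetric
-/

set_option autoImplicit false
open Cfsg Subgroup
open Cfsg.Agent.H230
open scoped commutatorElement

namespace Cfsg.Agent.H229

variable {G : Type*} [Group G]

theorem le_norm_of_cj_le {R K : Subgroup G} (h : ∀ r ∈ R, cj r K ≤ K) : R ≤ normalizer (K : Set G) := by
  intro r hr
  rw [mem_norm]
  apply le_antisymm (h r hr)
  rw [le_cj_iff]
  exact h _ (inv_mem hr)

theorem le_norm_comm_left (R Y : Subgroup G) : R ≤ normalizer ((⁅R, Y⁆ : Subgroup G) : Set G) := by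
  rw [Subgroup.commutator_def, le_normalizer_closure_iff]
  rintro r hr _ ⟨r', hr', y, hy, rfl⟩
  rw [← Subgroup.commutator_def]
  have e : r * ⁅r', y⁆ * r⁻¹ = ⁅r * r', y⁆ * ⁅r, y⁆⁻¹ := by
    simp only [commutatorElement_def]; group
  rw [e]
  exact mul_mem (commutator_mem_commutator (mul_mem hr hr') hy)
    (inv_mem (commutator_mem_commutator hr hy))

theorem le_norm_comm_right (R Y : Subgroup G) : Y ≤ normalizer ((⁅R, Y⁆ : Subgroup G) : Set G) := by
  rw [commutator_comm]; exact le_norm_comm_left Y R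

theorem le_norm_comm_sup (R Y : Subgroup G) : R ≤ normalizer ((⁅R, Y⁆ ⊔ Y : Subgroup G) : Set G) := by
  apply le_norm_of_cj_le
  intro r hr
  rw [cj_sup]
  refine sup_le ((cj_le_of_norm (le_norm_comm_left R Y hr)).trans le_sup_left) ?_
  rintro _ ⟨y, hy, rfl⟩
  have e : (MulAut.conj r).toMonoidHom y = ⁅r, y⁆ * y := by
    simp [commutatorElement_def]
  rw [e]
  exact mul_mem (mem_sup_left (commutator_mem_commutator hr hy)) (mem_sup_right hy)

/-- an element `a` of a `p`-group `H / N` setting: if `A ≤ H` has normal closure `H` modulo `N` and `H/N` is a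
`p`-group then `H = N A`. -/
theorem sup_eq_of_ncl [Finite G] {p : ℕ} [Fact p.Prime] {H A N : Subgroup G} (hN : N ≤ H)
    (hHN : H ≤ normalizer (N : Set G)) (hp : ∀ x ∈ H, ∃ k : ℕ, x ^ p ^ k ∈ N) (hA : A ≤ H)
    (hcl : ncl H A = H) : N ⊔ A = H := by
  by_contra hne
  have hle : N ⊔ A ≤ H := sup_le hN hA
  have hn : (N.subgroupOf H).Normal := (normal_subgroupOf_iff_le_normalizer hN).2 hHN
  -- the `p`-group `H / N`
  have hq : IsPGroup p (↥H ⧸ N.subgroupOf H) := by
    intro q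
    obtain ⟨x, rfl⟩ := QuotientGroup.mk'_surjective _ q
    obtain ⟨k, hk⟩ := hp x x.2
    refine ⟨k, ?_⟩
    rw [← map_pow, QuotientGroup.mk'_apply, QuotientGroup.eq_one_iff, mem_subgroupOf]
    simpa using hk
  have hnil : Group.IsNilpotent (↥H ⧸ N.subgroupOf H) := hq.isNilpotent
  have hlt : ((N ⊔ A).subgroupOf H).map (QuotientGroup.mk' (N.subgroupOf H)) ≠ ⊤ := by
    intro h
    apply hne
    apply le_antisymm hle
    intro x hx
    have h1 : QuotientGroup.mk' (N.subgroupOf H) (⟨x, hx⟩ : ↥H) ∈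
        ((N ⊔ A).subgroupOf H).map (QuotientGroup.mk' (N.subgroupOf H)) := by rw [h]; exact mem_top _
    obtain ⟨y, hy, hyx⟩ := h1
    rw [QuotientGroup.mk'_apply, QuotientGroup.mk'_apply, QuotientGroup.eq, mem_subgroupOf] at hyx
    have h2 : x = (y : G) * ((y : G)⁻¹ * x) := by group
    rw [h2]
    exact mul_mem (mem_subgroupOf.1 hy) (mem_sup_left (by simpa using hyx))
  obtain ⟨K, hK, hle2⟩ := (eq_top_or_exists_le_coatom (((N ⊔ A).subgroupOf H).map
    (QuotientGroup.mk' (N.subgroupOf H)))).resolve_left hlt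
  have hKn : K.Normal := by
    have hnc : NormalizerCondition (↥H ⧸ N.subgroupOf H) := Group.normalizerCondition_of_isNilpotent
    exact hnc.normal_of_coatom K hK
  have hK2 : (K.comap (QuotientGroup.mk' (N.subgroupOf H))).Normal := hKn.comap _
  have h3 : ncl H A ≤ (K.comap (QuotientGroup.mk' (N.subgroupOf H))).map H.subtype := by
    apply ncl_le
    · have := (normal_subgroupOf_iff_le_normalizer (H := (K.comap (QuotientGroup.mk' (N.subgroupOf H))).map H.subtype)
        (K := H) (Subgroup.map_subtype_le _)).1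
      apply this
      have e : ((K.comap (QuotientGroup.mk' (N.subgroupOf H))).map H.subtype).subgroupOf H =
          K.comap (QuotientGroup.mk' (N.subgroupOf H)) :=
        Subgroup.comap_map_eq_self_of_injective H.subtype_injective _
      rw [e]; exact hK2
    · intro a ha
      refine ⟨⟨a, hA ha⟩, ?_, rfl⟩
      exact hle2 ⟨⟨a, hA ha⟩, mem_subgroupOf.2 (mem_sup_right ha), rfl⟩
  rw [hcl] at h3
  apply hK.1
  rw [eq_top_iff]
  intro q _
  obtain ⟨x, rfl⟩ := QuotientGroup.mk'_surjective _ q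
  obtain ⟨y, hy, hyx⟩ := h3 x.2
  have : y = x := Subtype.ext hyx
  rw [← this]; exact hy

/-- if every element of `H` has a `p`-power power in `N ⊴ H` then `O^p(H) ≤ N`. -/
theorem resOf_le_of_pow [Finite G] {p : ℕ} [Fact p.Prime] {H N : Subgroup G}
    (hp : ∀ x ∈ H, ∃ k : ℕ, x ^ p ^ k ∈ N) : resOf p H ≤ N := by
  rw [resOf_eq_closure, closure_le]
  rintro x ⟨hx, hxo⟩
  obtain ⟨k, hk⟩ := hp x hx
  have h1 : (orderOf x).Coprime (p ^ k) := Nat.Coprime.pow_right k hxo
  have h2 : x ∈ zpowers (x ^ p ^ k) := by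
    rw [mem_zpowers_pow_iff]
    simpa [Nat.coprime_comm] using h1.symm
  exact (zpowers_le.2 hk) h2

/-- every element of `H` has a `p`-power power in `O^p(H)`. -/
theorem pow_mem_resOf [Finite G] {p : ℕ} [Fact p.Prime] {H : Subgroup G} {x : G} (hx : x ∈ H) :
    ∃ k : ℕ, x ^ p ^ k ∈ resOf p H := by
  refine ⟨(orderOf x).factorization p, mem_resOf_of_coprime (pow_mem hx _) ?_⟩
  rw [orderOf_pow_of_dvd (pow_ne_zero _ (Fact.out : p.Prime).ne_zero) (Nat.ordProj_dvd _ _)]
  exact (Nat.coprime_ordCompl (Fact.out : p.Prime) (orderOf_pos x).ne').symm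

/-- if `H = N A` with `A` a `p`-group and `N ⊴ H` then elements of `H` have `p`-power powers in `N`. -/
theorem pow_mem_of_sup [Finite G] {p : ℕ} [Fact p.Prime] {N A : Subgroup G}
    (hA : IsPGroup p ↥A) (hAN : A ≤ normalizer (N : Set G)) {x : G} (hx : x ∈ N ⊔ A) :
    ∃ k : ℕ, x ^ p ^ k ∈ N := by
  have hN : N ≤ N ⊔ A := le_sup_left
  have hn : (N.subgroupOf (N ⊔ A)).Normal :=
    (normal_subgroupOf_iff_le_normalizer hN).2 (sup_le le_normalizer hAN)
  have hq : IsPGroup p (↥(N ⊔ A : Subgroup G) ⧸ N.subgroupOf (N ⊔ A)) := by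
    intro q
    obtain ⟨⟨x, hx⟩, rfl⟩ := QuotientGroup.mk'_surjective _ q
    rw [mem_sup_of_norm hAN] at hx
    obtain ⟨n, hn', a, ha, rfl⟩ := hx
    obtain ⟨k, hk⟩ := hA ⟨a, ha⟩
    have hk' : a ^ p ^ k = 1 := congrArg Subtype.val hk
    refine ⟨k, ?_⟩
    have h1 : QuotientGroup.mk' (N.subgroupOf (N ⊔ A)) ⟨n * a, hx⟩ =
        QuotientGroup.mk' (N.subgroupOf (N ⊔ A)) ⟨a, mem_sup_right ha⟩ := by
      rw [QuotientGroup.mk'_apply, QuotientGroup.mk'_apply, QuotientGroup.eq, mem_subgroupOf]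
      show (n * a)⁻¹ * a ∈ N
      have h2 := (le_norm_iff.1 hAN) a⁻¹ (inv_mem ha) n⁻¹ (inv_mem hn')
      have e : (n * a)⁻¹ * a = a⁻¹ * n⁻¹ * a⁻¹⁻¹ := by group
      rw [e]; exact h2
    rw [h1, ← map_pow]
    have h3 : (⟨a, mem_sup_right ha⟩ : ↥(N ⊔ A : Subgroup G)) ^ p ^ k = 1 := Subtype.ext hk'
    rw [h3, map_one]
  obtain ⟨k, hk⟩ := hq (QuotientGroup.mk' _ ⟨x, hx⟩)
  refine ⟨k, ?_⟩
  rw [← map_pow, QuotientGroup.mk'_apply, QuotientGroup.eq_one_iff, mem_subgroupOf] at hk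
  simpa using hk

namespace Setup

variable {p : ℕ} {S : Sylow p G} {Q M : Subgroup G} [Finite G] [Fact p.Prime]

/-- `O_p(H) ≤ M†` for `H ≥ O_p(M)`. -/
theorem pCoreOf_le_dag (h : Setup p S Q M) (ha : ¬ IsSymmetricIn (largestPReducedOf p M)) {H : Subgroup G}
    (hPH : pCoreOf p M ≤ H) : pCoreOf p H ≤ dag p M := by
  obtain ⟨T, hT, hPT⟩ := exists_isSylowOf_ge (p := p) hPH (isPGroup_pCoreOf p M)
  exact (pCoreOf_le_of_isSylowOf hT).trans (h.le_dag_of_core_le ha hT.isPGroup hPT)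

/-- `O_p(H)` normalizes `O_p(M)` for `H ≥ O_p(M)`. -/
theorem pCoreOf_le_norm_core (h : Setup p S Q M) (ha : ¬ IsSymmetricIn (largestPReducedOf p M))
    {H : Subgroup G} (hPH : pCoreOf p M ≤ H) : pCoreOf p H ≤ normalizer (pCoreOf p M : Set G) := by
  obtain ⟨T, hT, hPT⟩ := exists_isSylowOf_ge (p := p) hPH (isPGroup_pCoreOf p M)
  exact (pCoreOf_le_of_isSylowOf hT).trans (le_normalizer.trans (h.norm_le_norm_core ha hT.isPGroup hPT))

/-- Sylow `p`-subgroups of `H ∩ M†` are Sylow in `H` for `H ≥ O_p(M)`. -/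
theorem isSylowOf_of_inf_dag (h : Setup p S Q M) (ha : ¬ IsSymmetricIn (largestPReducedOf p M))
    {H T : Subgroup G} (hPH : pCoreOf p M ≤ H) (hT : IsSylowOf p T (H ⊓ dag p M)) : IsSylowOf p T H := by
  obtain ⟨T₀, hT₀, hPT⟩ := exists_isSylowOf_ge (p := p) hPH (isPGroup_pCoreOf p M)
  have h1 : IsSylowOf p T₀ (H ⊓ dag p M) :=
    hT₀.of_le inf_le_left (le_inf hT₀.le (h.le_dag_of_core_le ha hT₀.isPGroup hPT))
  obtain ⟨a, haH, haT⟩ := h1.exists_conj hT
  have h2 : IsSylowOf p (cj a T₀) (cj a H) := hT₀.map_equiv (MulAut.conj a)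
  rw [cj_mem_self haH.1] at h2
  rw [← haT]; exact h2

/-- if `H = P O_p(H)` with `O_p(M) ≤ P` then the `H`-conjugates of `Y_M`, `O_p(M)` are `P`-conjugates. -/
theorem ncl_core_le (h : Setup p S Q M) (ha : ¬ IsSymmetricIn (largestPReducedOf p M)) {P H : Subgroup G}
    (hP : pCoreOf p M ≤ P) (hPH : P ⊔ pCoreOf p H = H) : ncl H (pCoreOf p M) ≤ P := by
  rw [ncl_le_iff]
  intro x hx
  have hPle : P ≤ H := by rw [← hPH]; exact le_sup_left
  have hx' : x ∈ pCoreOf p H ⊔ P := by rw [sup_comm, hPH]; exact hx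
  rw [mem_sup_of_norm (hPle.trans (le_norm_pCoreOf p H))] at hx'
  obtain ⟨u, hu, y, hy, rfl⟩ := hx'
  have e : u * y = y * (y⁻¹ * u * y) := by group
  have h1 : y⁻¹ * u * y ∈ pCoreOf p H := by
    have := (le_norm_iff.1 (le_norm_pCoreOf p H)) y⁻¹ (inv_mem (hPle hy)) u hu
    simpa using this
  rw [e, cj_mul, mem_norm.1 (h.pCoreOf_le_norm_core ha (hP.trans hPle) h1)]
  exact (cj_mono hP).trans (cj_le_of_norm (le_normalizer hy))

/-- S2852 -/
theorem exists_frakH (h : Setup p S Q M) (ha : ¬ IsSymmetricIn (largestPReducedOf p M))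
    (htall : IsCharPTall p (largestPReducedOf p M)) : ∃ H : Subgroup G, IsInFrakH p M H := by
  set Y := largestPReducedOf p M with hY
  set C := centralizer (Y : Set G) with hC
  set P := pCoreOf p M with hP
  -- the set of candidates
  let 𝒳 : Set (Subgroup G) := {H | ChP p H ∧ P ≤ H ∧ ¬ Y ≤ pCoreOf p H}
  have hne : 𝒳.Nonempty := by
    obtain ⟨T, L, hTL, hL, hYL⟩ := htall
    have hT1 : IsSylowOf p ((T : Subgroup ↥C).map C.subtype) C := ⟨T, rfl⟩
    have hT2 : IsSylowOf p P C := by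
      rw [isSylowOf_iff_maximal]
      refine ⟨pCoreOf_le_centralizer_largest p M, isPGroup_pCoreOf p M, fun R hR hRp hPR => ?_⟩
      have h1 := h.inf_cent_eq hRp (hR.trans le_sup_right) hPR
      rw [hP, ← h1]
      exact (inf_eq_left.2 hR).symm
    obtain ⟨c, hc, hcT⟩ := hT1.exists_conj hT2
    refine ⟨cj c L, (chP_iff.2 hL).cj c, ?_, ?_⟩
    · rw [← hcT]
      exact cj_mono hTL
    · intro h2
      apply hYL
      rw [pCoreOf_cj, le_cj_iff] at h2
      have h3 : cj c⁻¹ Y = Y := mem_norm.1 (centralizer_le_norm Y (inv_mem hc))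
      rw [h3] at h2
      exact h2
  obtain ⟨H, hH⟩ := (Set.toFinite 𝒳).exists_minimal hne
  obtain ⟨⟨hH1, hH2, hH3⟩, hmin⟩ := hH
  have hmin' : ∀ K, K ∈ 𝒳 → K ≤ H → K = H := fun K hK hKH => le_antisymm hKH (hmin hK hKH)
  refine ⟨H, chP_iff.1 hH1, hH2, hH3, ?_⟩
  intro K hPK hKH
  by_contra hYK
  have hKH' := hKH.le
  have hKN : K ≤ normalizer (pCoreOf p H : Set G) := hKH'.trans (le_norm_pCoreOf p H)
  -- `K O_p(H)` has characteristic `p`
  have h1 : pCoreOf p H ≤ pCoreOf p (K ⊔ pCoreOf p H) :=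
    le_pCoreOf le_sup_right (sup_le hKN le_normalizer) (isPGroup_pCoreOf p H)
  have hKsup : K ⊔ pCoreOf p H ≤ H := sup_le hKH' (pCoreOf_le p H)
  have h2 : ChP p (K ⊔ pCoreOf p H) := by
    refine le_trans ?_ h1
    refine le_trans ?_ hH1
    exact inf_le_inf hKsup (cent_mono h1)
  by_cases h3 : K ⊔ pCoreOf p H = H
  · -- then `H` is generated by the conjugates of `O_p(M)` inside `K`
    have h4 := h.ncl_core_le ha hPK h3
    have hcl1 : ncl H P ≤ H := ncl_le_self hH2
    have hcl2 : H ≤ normalizer (ncl H P : Set G) := le_norm_ncl H P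
    have h5 : ncl H P ∈ 𝒳 := by
      refine ⟨hH1.normal hcl1 hcl2, le_ncl H P, fun h6 => hH3 (h6.trans ?_)⟩
      exact pCoreOf_le_pCoreOf hcl1 hcl2
    have h6 := hmin' _ h5 hcl1
    exact hKH.not_ge (h6 ▸ h4)
  · have h4 : K ⊔ pCoreOf p H ∉ 𝒳 := fun h5 => h3 (hmin' _ h5 hKsup)
    have h5 : Y ≤ pCoreOf p (K ⊔ pCoreOf p H) := by
      by_contra h6
      exact h4 ⟨h2, hPK.trans le_sup_left, h6⟩
    apply hYK
    refine le_trans ?_ (pCoreOf_inf_le (p := p) (P := K) (L := K ⊔ pCoreOf p H) le_sup_left)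
    exact le_inf h5 ((largest_le_pCoreOf p M).trans hPK)

/-! ### Structure of the members of `ℌ_G(O_p(M))` -/

section Structure

variable {H : Subgroup G}

omit [Finite G] [Fact p.Prime] in
theorem frakH_ncl (hH : IsInFrakH p M H) : ncl H (pCoreOf p M) = H := by
  obtain ⟨h1, h2, h3, h4⟩ := hH
  by_contra hne
  have hlt : ncl H (pCoreOf p M) < H := lt_of_le_of_ne (ncl_le_self h2) hne
  apply h3
  exact (h4 _ (le_ncl _ _) hlt).trans (pCoreOf_le_pCoreOf hlt.le (le_norm_ncl _ _))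

theorem frakH_sup (hH : IsInFrakH p M H) : resOf p H ⊔ pCoreOf p M = H :=
  sup_eq_of_ncl (p := p) (resOf_le p H) (H230.le_normalizer_resOf p H) (fun _ hx => pow_mem_resOf hx) hH.2.1
    (frakH_ncl hH)

omit [Finite G] [Fact p.Prime] in
theorem frakH_sup_ncl (hH : IsInFrakH p M H) : ncl H (largestPReducedOf p M) ⊔ pCoreOf p M = H := by
  obtain ⟨h1, h2, h3, h4⟩ := hH
  have hYH : largestPReducedOf p M ≤ H := (largest_le_pCoreOf p M).trans h2
  by_contra hne
  have hlt : ncl H (largestPReducedOf p M) ⊔ pCoreOf p M < H :=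
    lt_of_le_of_ne (sup_le (ncl_le_self hYH) h2) hne
  apply h3
  have h5 := h4 _ le_sup_right hlt
  have h6 : largestPReducedOf p M ≤ pCoreOf p (ncl H (largestPReducedOf p M)) := by
    refine le_trans ?_ (pCoreOf_inf_le (p := p) (P := ncl H (largestPReducedOf p M))
      (L := ncl H (largestPReducedOf p M) ⊔ pCoreOf p M) le_sup_left)
    exact le_inf h5 (le_ncl _ _)
  exact h6.trans (pCoreOf_le_pCoreOf (ncl_le_self hYH) (le_norm_ncl _ _))

omit [Finite G] [Fact p.Prime] in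
theorem core_le_norm_Y : pCoreOf p M ≤ normalizer (largestPReducedOf p M : Set G) :=
  (pCoreOf_le_centralizer_largest p M).trans (centralizer_le_norm _)

/-- `[R, Y] ⊴ H` for `R = O^p(H)`. -/
theorem frakH_norm_comm (hH : IsInFrakH p M H) :
    H ≤ normalizer ((⁅resOf p H, largestPReducedOf p M⁆ : Subgroup G) : Set G) := by
  have hHR : H ≤ normalizer (resOf p H : Set G) := H230.le_normalizer_resOf p H
  calc H = resOf p H ⊔ pCoreOf p M := (frakH_sup hH).symm
    _ ≤ _ := sup_le (le_norm_comm_left _ _)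
      (le_trans (le_inf (hH.2.1.trans hHR) core_le_norm_Y) (norm_comm_le _ _))

theorem frakH_ncl_le (hH : IsInFrakH p M H) :
    ncl H (largestPReducedOf p M) ≤ ⁅resOf p H, largestPReducedOf p M⁆ ⊔ largestPReducedOf p M := by
  apply ncl_le _ le_sup_right
  calc H = resOf p H ⊔ pCoreOf p M := (frakH_sup hH).symm
    _ ≤ _ := sup_le (le_norm_comm_sup _ _)
      (le_trans (le_inf (hH.2.1.trans (frakH_norm_comm hH)) core_le_norm_Y) (norm_sup_le _ _))

/-- `O^p(H) = [O^p(H), Y_M]`. -/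
theorem frakH_comm (hH : IsInFrakH p M H) : ⁅resOf p H, largestPReducedOf p M⁆ = resOf p H := by
  have hYP := largest_le_pCoreOf p M
  have hYH : largestPReducedOf p M ≤ H := hYP.trans hH.2.1
  have hHR : H ≤ normalizer (resOf p H : Set G) := H230.le_normalizer_resOf p H
  apply le_antisymm
  · rw [commutator_comm]
    exact le_norm_iff_comm_le.1 (hYH.trans hHR)
  · apply resOf_le_of_pow
    intro x hx
    refine pow_mem_of_sup (A := pCoreOf p M) (isPGroup_pCoreOf p M) (hH.2.1.trans (frakH_norm_comm hH)) ?_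
    rw [← frakH_sup_ncl hH] at hx
    refine (sup_le ((frakH_ncl_le hH).trans (sup_le_sup_left hYP _)) le_sup_right) hx

theorem frakH_res_sup (hH : IsInFrakH p M H) :
    resOf p H ⊔ largestPReducedOf p M = ncl H (largestPReducedOf p M) := by
  have hYH : largestPReducedOf p M ≤ H := (largest_le_pCoreOf p M).trans hH.2.1
  apply le_antisymm
  · refine sup_le ?_ (le_ncl _ _)
    apply resOf_le_of_pow
    intro x hx
    refine pow_mem_of_sup (A := pCoreOf p M) (isPGroup_pCoreOf p M) (hH.2.1.trans (le_norm_ncl _ _)) ?_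
    rw [frakH_sup_ncl hH]; exact hx
  · have h1 := frakH_ncl_le hH
    rw [frakH_comm hH] at h1
    exact h1

end Structure

end Setup

end Cfsg.Agent.H229
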