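import Cfsg.Agent.H229.Large

/-!
# The basic property `M ∈ 𝔐_G(S)` in a group with a large `p`-subgroup

`Setup p S Q M`: `S` Sylow in `G`, `Q ≤ S` a nontrivial large `p`-subgroup, `S ≤ M`, `M ∈ 𝔐_G`.
-/

set_option autoImplicit false
open Cfsg Subgroup
open Cfsg.Agent.H230

namespace Cfsg.Agent.H229

variable {G : Type*} [Group G]

theorem card_cj [Finite G] (g : G) (H : Subgroup G) : Nat.card ↥(cj g H) = Nat.card ↥H :=
  Subgroup.card_map_of_injective (MulAut.conj g).injective

theorem eq_of_cj_le [Finite G] {g : G} {H K : Subgroup G} (h : cj g H ≤ K) (h2 : K ≤ H) : H = K := by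
  apply (Subgroup.eq_of_le_of_card_ge h2 ?_).symm
  rw [← card_cj g H]
  exact Subgroup.card_le_of_le h

theorem cj_eq_of_le [Finite G] {g : G} {H : Subgroup G} (h : cj g H ≤ H) : cj g H = H :=
  Subgroup.eq_of_le_of_card_ge h (card_cj g H).ge

theorem isSylowOf_of_sylow {p : ℕ} (S : Sylow p G) {L : Subgroup G} (h : (S : Subgroup G) ≤ L) :
    IsSylowOf p (S : Subgroup G) L := by
  rw [isSylowOf_iff_maximal]
  exact ⟨h, S.2, fun R _ hR hSR => S.3 hR hSR⟩

/-- maximal members of `𝓛_G` above a given one -/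
theorem exists_maxCharP [Finite G] {p : ℕ} {X : Subgroup G} (h : X ∈ charPSubgroups p G) :
    ∃ X' ∈ maxCharPSubgroups p G, X ≤ X' := by
  obtain ⟨X', h1, h2⟩ := (Set.toFinite (charPSubgroups p G)).exists_le_maximal h
  exact ⟨X', ⟨h2.1, fun L hL hL' => le_antisymm (h2.2 hL hL') hL'⟩, h1⟩

theorem isWeaklyClosed_subgroupOf {P T L : Subgroup G} {T' : Subgroup ↥L} (hT' : T'.map L.subtype = T)
    (hPT : P ≤ T) (h : ∀ g ∈ L, cj g P ≤ T → cj g P = P) : IsWeaklyClosed (P.subgroupOf L) T' := by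
  have hTL : T ≤ L := hT' ▸ Subgroup.map_subtype_le _
  have hPL : P ≤ L := hPT.trans hTL
  have hmap : (P.subgroupOf L).map L.subtype = P := by
    rw [Subgroup.subgroupOf_map_subtype, inf_eq_left.2 hPL]
  have key : ∀ g : ↥L, ((P.subgroupOf L).map (MulAut.conj g).toMonoidHom).map L.subtype = cj (g : G) P := by
    intro g
    have e : L.subtype.comp (MulAut.conj g).toMonoidHom = (MulAut.conj (g : G)).toMonoidHom.comp L.subtype := by
      ext x; rfl
    rw [Subgroup.map_map, e, ← Subgroup.map_map, hmap]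
  refine ⟨?_, ?_⟩
  · rw [← Subgroup.map_subtype_le_map_subtype, hmap, hT']; exact hPT
  · intro g hg
    have h1 : cj (g : G) P ≤ T := by
      rw [← key, ← hT']
      exact Subgroup.map_mono hg
    have h2 := h g g.2 h1
    apply Subgroup.map_injective L.subtype_injective
    rw [key, hmap, h2]

/-- The standing hypotheses. -/
structure Setup (p : ℕ) (S : Sylow p G) (Q M : Subgroup G) : Prop where
  large : LargeP p Q
  QS : Q ≤ (S : Subgroup G)
  SM : (S : Subgroup G) ≤ M
  frak : IsInFrakM p M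

/-- `M† = M C_G(Y_M)`. -/
abbrev dag (p : ℕ) (M : Subgroup G) : Subgroup G :=
  M ⊔ centralizer (largestPReducedOf p M : Set G)

namespace Setup

variable {p : ℕ} {S : Sylow p G} {Q M : Subgroup G}

theorem mem_charP (h : Setup p S Q M) : M ∈ charPSubgroups p G := h.frak.1

theorem chP (h : Setup p S Q M) : ChP p M := chP_of_mem_charPSubgroups h.mem_charP

theorem core_ne_bot (h : Setup p S Q M) : pCoreOf p M ≠ ⊥ := (mem_charPSubgroups.1 h.mem_charP).1

theorem cent_core (h : Setup p S Q M) : centralizer (pCoreOf p M : Set G) ≤ pCoreOf p M :=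
  (mem_charPSubgroups.1 h.mem_charP).2

theorem core_le_S (h : Setup p S Q M) : pCoreOf p M ≤ (S : Subgroup G) :=
  pCoreOf_le_of_isSylowOf (isSylowOf_of_sylow S h.SM)

theorem S_le_dag (h : Setup p S Q M) : (S : Subgroup G) ≤ dag p M := h.SM.trans le_sup_left

theorem dag_le_norm : dag p M ≤ normalizer (largestPReducedOf p M : Set G) :=
  sup_le (largest_normal p M) (centralizer_le_norm _)

theorem dag_le_norm_cent :
    dag p M ≤ normalizer ((centralizer (largestPReducedOf p M : Set G) : Subgroup G) : Set G) :=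
  dag_le_norm.trans (norm_le_norm_centralizer _)

theorem dag_mem (h : Setup p S Q M) : dag p M ∈ maxCharPSubgroups p G := h.frak.2.1

theorem dag_unique (h : Setup p S Q M) {X : Subgroup G} (hX : X ∈ maxCharPSubgroups p G) (hMX : M ≤ X) :
    X = dag p M := h.frak.2.2.1 X hX hMX

theorem largest_dag (h : Setup p S Q M) : largestPReducedOf p (dag p M) = largestPReducedOf p M :=
  h.frak.2.2.2.1.symm

/-- elements of `M†` act on `Y_M` like elements of `M`. -/
theorem exists_mul {x : G} (hx : x ∈ dag p M) :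
    ∃ m ∈ M, ∃ c ∈ centralizer (largestPReducedOf p M : Set G), x = m * c := by
  rw [dag, sup_comm, mem_sup_of_norm (dag_le_norm_cent (p := p) (M := M) |>.trans' le_sup_left)] at hx
  obtain ⟨c, hc, m, hm, rfl⟩ := hx
  refine ⟨m, hm, m⁻¹ * c * m, ?_, by group⟩
  have := (le_norm_iff.1 (dag_le_norm_cent (p := p) (M := M))) m⁻¹ (inv_mem (mem_sup_left hm)) c hc
  simpa using this

variable [Finite G] [Fact p.Prime]

theorem largest_ne_bot (h : Setup p S Q M) : largestPReducedOf p M ≠ ⊥ :=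
  H229.largest_ne_bot h.chP h.core_ne_bot

/-- `S ∩ C_G(Y_M) = O_p(M)`. -/
theorem S_inf (h : Setup p S Q M) :
    (S : Subgroup G) ⊓ centralizer (largestPReducedOf p M : Set G) = pCoreOf p M := by
  apply le_antisymm
  · set K := M ⊓ centralizer (largestPReducedOf p M : Set G) with hK
    have h1 : (S : Subgroup G) ⊓ centralizer (largestPReducedOf p M : Set G) ≤ K := inf_le_inf_right _ h.SM
    have h2 : IsPGroup p ↥((S : Subgroup G) ⊓ centralizer (largestPReducedOf p M : Set G) : Subgroup G) :=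
      isPGroup_mono inf_le_left S.2
    obtain ⟨T, ⟨P, rfl⟩, hT⟩ := exists_isSylowOf_ge h1 h2
    have h3 : (P : Subgroup ↥K).Normal := h.frak.2.2.2.2.1 P
    have h4 : (P : Subgroup ↥K) ≤ pCore p ↥K := Lib.Cores.le_pCore h3 P.2
    refine (hT.trans (Subgroup.map_mono h4)).trans ?_
    apply pCoreOf_le_pCoreOf inf_le_left
    refine le_trans ?_ (norm_inf_le _ _)
    exact le_inf le_normalizer ((largest_normal p M).trans (norm_le_norm_centralizer _))
  · exact le_inf h.core_le_S (pCoreOf_le_centralizer_largest p M)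

/-- `R ∩ C_G(Y_M) = O_p(M)` for every `p`-subgroup `R` of `M†` containing `O_p(M)`. -/
theorem inf_cent_eq (h : Setup p S Q M) {R : Subgroup G} (hR : IsPGroup p ↥R) (hRM : R ≤ dag p M)
    (hPR : pCoreOf p M ≤ R) : R ⊓ centralizer (largestPReducedOf p M : Set G) = pCoreOf p M := by
  obtain ⟨T, hT, hRT⟩ := exists_isSylowOf_ge hRM hR
  obtain ⟨a, ha, haT⟩ := hT.exists_conj (isSylowOf_of_sylow S h.S_le_dag)
  have h1 : cj a (R ⊓ centralizer (largestPReducedOf p M : Set G)) ≤ pCoreOf p M := by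
    rw [cj_inf, ← h.S_inf]
    apply inf_le_inf
    · rw [← haT]; exact cj_mono hRT
    · exact cj_le_of_norm (dag_le_norm_cent ha)
  exact eq_of_cj_le h1 (le_inf hPR (pCoreOf_le_centralizer_largest p M))

/-- `O_p(M)` is weakly closed in `M†`. -/
theorem weaklyClosed_dag (h : Setup p S Q M) {R : Subgroup G} (hR : IsPGroup p ↥R) (hRM : R ≤ dag p M)
    (hPR : pCoreOf p M ≤ R) {g : G} (hg : g ∈ dag p M) (hgR : cj g (pCoreOf p M) ≤ R) :
    cj g (pCoreOf p M) = pCoreOf p M := by
  apply cj_eq_of_le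
  nth_rewrite 2 [← h.inf_cent_eq hR hRM hPR]
  refine le_inf hgR ?_
  refine (cj_mono (pCoreOf_le_centralizer_largest p M)).trans ?_
  exact cj_le_of_norm (dag_le_norm_cent hg)

/-- every overgroup of `M` with nontrivial `O_p` lies in `M†`. -/
theorem le_dag (h : Setup p S Q M) {X : Subgroup G} (hMX : M ≤ X) (hX : pCoreOf p X ≠ ⊥) : X ≤ dag p M := by
  have h1 : X ∈ charPSubgroups p G := h.large.mem_charPSubgroups S h.QS (h.SM.trans hMX) hX
  obtain ⟨X', h2, h3⟩ := exists_maxCharP h1
  rw [← h.dag_unique h2 (hMX.trans h3)]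
  exact h3

theorem le_dag_of_normal (h : Setup p S Q M) {X N : Subgroup G} (hMX : M ≤ X) (hNX : N ≤ X)
    (hXN : X ≤ normalizer (N : Set G)) (hN : IsPGroup p ↥N) (hN1 : N ≠ ⊥) : X ≤ dag p M := by
  apply h.le_dag hMX
  intro h2
  exact hN1 (le_bot_iff.1 (h2 ▸ le_pCoreOf hNX hXN hN))

/-- `N_G(O_p(M)) ≤ M†`. -/
theorem norm_core_le (h : Setup p S Q M) : normalizer (pCoreOf p M : Set G) ≤ dag p M :=
  h.le_dag_of_normal (le_norm_pCoreOf p M) le_normalizer le_rfl (isPGroup_pCoreOf p M) h.core_ne_bot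

/-- `M† = N_G(Y_M)`. -/
theorem dag_eq (h : Setup p S Q M) : dag p M = normalizer (largestPReducedOf p M : Set G) := by
  apply le_antisymm dag_le_norm
  exact h.le_dag_of_normal (largest_normal p M) le_normalizer le_rfl
    (ea_isPGroup (largest_ea p M)) h.largest_ne_bot

end Setup

end Cfsg.Agent.H229
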