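import Cfsg.Agent.H229.PRed

/-!
# Large `p`-subgroups

`LargeP p Q`: `Q` is a nontrivial large `p`-subgroup of the finite group `G`.
-/

set_option autoImplicit false
open Cfsg Subgroup
open Cfsg.Agent.H230

namespace Cfsg.Agent.H229

variable {G : Type*} [Group G]

theorem cent_mono {H K : Subgroup G} (h : H ≤ K) :
    centralizer (K : Set G) ≤ centralizer (H : Set G) := Subgroup.centralizer_le h

/-- `Q` is a nontrivial large `p`-subgroup. -/
structure LargeP (p : ℕ) (Q : Subgroup G) : Prop where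
  pgroup : IsPGroup p ↥Q
  ne_bot : Q ≠ ⊥
  large : IsLarge Q

namespace LargeP

variable {p : ℕ} {Q : Subgroup G}

theorem cent (h : LargeP p Q) : centralizer (Q : Set G) ≤ Q := h.large.1

theorem norm (h : LargeP p Q) {U : Subgroup G} (hU : U ≤ centralizer (Q : Set G)) (hU1 : U ≠ ⊥) :
    normalizer (U : Set G) ≤ normalizer (Q : Set G) := h.large.2 U hU hU1

theorem cj (h : LargeP p Q) (g : G) : LargeP p (H229.cj g Q) := by
  refine ⟨isPGroup_cj h.pgroup, fun h2 => h.ne_bot (cj_eq_bot.1 h2), ?_, ?_⟩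
  · rw [← cj_centralizer]
    exact cj_mono h.cent
  · intro U hU hU1
    rw [← cj_centralizer] at hU
    rw [← cj_normalizer, le_cj_iff, cj_normalizer]
    apply h.norm
    · rw [cj_le_iff, inv_inv]; exact hU
    · exact fun h2 => hU1 (cj_eq_bot.1 h2)

theorem of_eq {Q' : Subgroup G} (h : LargeP p Q) (e : Q = Q') : LargeP p Q' := e ▸ h

variable [Finite G] [Fact p.Prime]

/-- `C_G(Y) ≤ N_G(Q)` for a nontrivial `p`-subgroup `Y` normalized by `Q`; even `N_G(Y ∩ C(Q)) ≤ N_G(Q)`. -/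
theorem inf_centralizer_ne_bot (h : LargeP p Q) {Y : Subgroup G} (hY : IsPGroup p ↥Y) (hY1 : Y ≠ ⊥)
    (hQY : Q ≤ normalizer (Y : Set G)) : Y ⊓ centralizer (Q : Set G) ≠ ⊥ :=
  PLocal.OffenderStep.inf_centralizer_ne_bot Y Q hY h.pgroup hQY hY1

theorem centralizer_le (h : LargeP p Q) {Y : Subgroup G} (hY : IsPGroup p ↥Y) (hY1 : Y ≠ ⊥)
    (hQY : Q ≤ normalizer (Y : Set G)) : centralizer (Y : Set G) ≤ normalizer (Q : Set G) := by
  have h1 := h.inf_centralizer_ne_bot hY hY1 hQY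
  refine le_trans ?_ (h.norm inf_le_right h1)
  exact (cent_mono inf_le_left).trans (centralizer_le_norm _)

/-- `N_G(T) ≤ N_G(Q)` for every `p`-subgroup `T ≥ Q`. -/
theorem norm_le (h : LargeP p Q) {T : Subgroup G} (hT : IsPGroup p ↥T) (hQT : Q ≤ T) :
    normalizer (T : Set G) ≤ normalizer (Q : Set G) := by
  have hT1 : T ≠ ⊥ := fun h2 => h.ne_bot (le_bot_iff.1 (h2 ▸ hQT))
  have h1 : T ⊓ centralizer (T : Set G) ≠ ⊥ :=
    PLocal.OffenderStep.inf_centralizer_ne_bot T T hT hT le_normalizer hT1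
  have h2 := h.norm (U := T ⊓ centralizer (T : Set G)) (inf_le_right.trans (Subgroup.centralizer_le hQT)) h1
  refine le_trans ?_ h2
  refine le_trans ?_ (norm_inf_le _ _)
  exact le_inf le_rfl (norm_le_norm_centralizer T)

theorem le_norm_of_le (h : LargeP p Q) {T : Subgroup G} (hT : IsPGroup p ↥T) (hQT : Q ≤ T) :
    T ≤ normalizer (Q : Set G) := le_normalizer.trans (h.norm_le hT hQT)

end LargeP

/-- If `N_G(R) ≤ N_G(Q)` for all `p`-subgroups `R ≥ Q` then `Q` is the only conjugate of itself in every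
`p`-subgroup containing it. -/
theorem weaklyClosed_of_norm [Finite G] {p : ℕ} [Fact p.Prime] {Q : Subgroup G}
    (h : ∀ R : Subgroup G, IsPGroup p ↥R → Q ≤ R → normalizer (R : Set G) ≤ normalizer (Q : Set G))
    {T : Subgroup G} (hT : IsPGroup p ↥T) (hQT : Q ≤ T) {g : G} (hg : cj g Q ≤ T) : cj g Q = Q := by
  obtain ⟨P, hTP⟩ := hT.exists_le_sylow
  have hQP : Q ≤ P := hQT.trans hTP
  have hgP : cj g Q ≤ P := hg.trans hTP
  have hP : IsPGroup p ↥(P : Subgroup G) := P.2
  have h' : ∀ R : Subgroup G, IsPGroup p ↥R → cj g Q ≤ R → normalizer (R : Set G) ≤ normalizer (cj g Q : Set G) := by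
    intro R hR hQR
    rw [← cj_normalizer, le_cj_iff, cj_normalizer]
    apply h
    · exact isPGroup_cj hR
    · rw [← cj_le_iff]; exact hQR
  have h1 : (P : Subgroup G) ≤ normalizer (cj g Q : Set G) := le_normalizer.trans (h' _ hP hgP)
  have h2 : cj g (P : Subgroup G) ≤ normalizer (cj g Q : Set G) := by
    rw [← cj_normalizer]
    exact cj_mono (le_normalizer.trans (h _ hP hQP))
  -- both `P` and `cj g P` are Sylow in `N(cj g Q)`
  have hS1 : IsSylowOf p (P : Subgroup G) (normalizer (cj g Q : Set G)) := by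
    rw [isSylowOf_iff_maximal]
    exact ⟨h1, hP, fun R _ hR hPR => P.3 hR hPR⟩
  have hS2 : IsSylowOf p (cj g (P : Subgroup G)) (normalizer (cj g Q : Set G)) := by
    rw [isSylowOf_iff_maximal]
    refine ⟨h2, isPGroup_cj hP, fun R _ hR hPR => ?_⟩
    have := P.3 (isPGroup_cj (g := g⁻¹) hR) (cj_le_iff.1 hPR)
    rw [cj_eq_iff, inv_inv] at this
    exact this
  obtain ⟨a, ha, hPa⟩ := hS2.exists_conj hS1
  have h3 : a * g ∈ normalizer ((P : Subgroup G) : Set G) := by
    rw [mem_norm, cj_mul]; exact hPa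
  have h4 := mem_norm.1 (h _ hP hQP h3)
  rw [cj_mul, mem_norm.1 ha] at h4
  exact h4

namespace LargeP

variable {p : ℕ} {Q : Subgroup G} [Finite G] [Fact p.Prime]

/-- large `p`-subgroups are weakly closed -/
theorem weaklyClosed (h : LargeP p Q) {T : Subgroup G} (hT : IsPGroup p ↥T) (hQT : Q ≤ T) {g : G}
    (hg : H229.cj g Q ≤ T) : H229.cj g Q = Q :=
  weaklyClosed_of_norm (fun _ hR hQR => h.norm_le hR hQR) hT hQT hg

/-- `C_G(Q) ∩ C_G(Q^g) = 1` for `g ∉ N_G(Q)`. -/
theorem inf_centralizer_eq_bot (h : LargeP p Q) {g : G} (hg : g ∉ normalizer (Q : Set G)) :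
    centralizer (Q : Set G) ⊓ centralizer (H229.cj g Q : Set G) = ⊥ := by
  by_contra hU
  apply hg
  set U := centralizer (Q : Set G) ⊓ centralizer (H229.cj g Q : Set G) with hUd
  have h1 : Q ≤ normalizer (U : Set G) :=
    (le_centralizer_comm inf_le_left).trans (centralizer_le_norm _)
  have h2 : H229.cj g Q ≤ normalizer (U : Set G) :=
    (le_centralizer_comm (inf_le_right)).trans (centralizer_le_norm _)
  have h3 : H229.cj g Q ≤ normalizer (Q : Set G) := h2.trans (h.norm inf_le_left hU)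
  have h4 : IsPGroup p ↥(Q ⊔ H229.cj g Q : Subgroup G) :=
    isPGroup_sup_of_norm h.pgroup (isPGroup_cj h.pgroup) h3
  rw [mem_norm]
  exact h.weaklyClosed h4 le_sup_left le_sup_right

/-- Core of S2842/S2845. For `Q ≤ L` with `O_p(L) ≠ 1`: `C_G(O_p(L)) ∩ Q ≤ O_p(L)`. -/
theorem inf_centralizer_le (h : LargeP p Q) {L : Subgroup G} (hQL : Q ≤ L) (hL : pCoreOf p L ≠ ⊥) :
    Q ⊓ centralizer (pCoreOf p L : Set G) ≤ pCoreOf p L := by
  set C := centralizer (pCoreOf p L : Set G) with hC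
  have hQN : Q ≤ normalizer (pCoreOf p L : Set G) := hQL.trans (le_norm_pCoreOf p L)
  have hCQ : C ≤ normalizer (Q : Set G) := h.centralizer_le (isPGroup_pCoreOf p L) hL hQN
  have hLC : L ≤ normalizer ((L ⊓ C : Subgroup G) : Set G) := by
    refine le_trans ?_ (norm_inf_le _ _)
    exact le_inf le_normalizer ((le_norm_pCoreOf p L).trans (norm_le_norm_centralizer _))
  have h1 : Q ⊓ C ≤ pCoreOf p (L ⊓ C) := by
    refine le_pCoreOf (inf_le_inf_right _ hQL) ?_ (isPGroup_mono inf_le_left h.pgroup)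
    refine le_trans ?_ (norm_inf_le _ _)
    exact le_inf (inf_le_right.trans hCQ) (inf_le_right.trans le_normalizer)
  exact h1.trans (pCoreOf_le_pCoreOf inf_le_left hLC)

/-- For `Q ≤ L` with `O_p(L) ≠ 1`: `C_G(O_p(L))` is a `p`-group. -/
theorem isPGroup_centralizer (h : LargeP p Q) {L : Subgroup G} (hQL : Q ≤ L) (hL : pCoreOf p L ≠ ⊥) :
    IsPGroup p ↥(centralizer (pCoreOf p L : Set G)) := by
  set C := centralizer (pCoreOf p L : Set G) with hC
  have hQN : Q ≤ normalizer (pCoreOf p L : Set G) := hQL.trans (le_norm_pCoreOf p L)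
  have hQC : Q ≤ normalizer (C : Set G) := hQN.trans (norm_le_norm_centralizer _)
  have hCQ : C ≤ normalizer (Q : Set G) := h.centralizer_le (isPGroup_pCoreOf p L) hL hQN
  have h0 := h.inf_centralizer_le hQL hL
  apply subgroup_isPGroup_of_coprime_trivial
  intro x hx hxo
  have hx1 : x ∈ centralizer (Q : Set G) := by
    refine mem_centralizer_of_quadratic (D := Q ⊓ C) h.pgroup inf_le_left hxo ?_ ?_
    · intro q hq
      refine ⟨?_, ?_⟩
      · exact Q.mul_mem (Q.inv_mem hq) ((le_norm_iff.1 hCQ) x hx q hq)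
      · have h3 : q⁻¹ * x * q ∈ C := by
          have := (le_norm_iff.1 hQC) q⁻¹ (Q.inv_mem hq) x hx
          simpa using this
        have e : q⁻¹ * (x * q * x⁻¹) = (q⁻¹ * x * q) * x⁻¹ := by group
        rw [e]
        exact C.mul_mem h3 (C.inv_mem hx)
    · intro d hd
      exact ((mem_centralizer_iff.1 hx) d (h0 hd)).symm
  have hx2 : x ∈ Q := h.cent hx1
  obtain ⟨k, hk⟩ := h.pgroup ⟨x, hx2⟩
  have hk' : x ^ p ^ k = 1 := by
    have := congrArg (Subtype.val) hk
    simpa using this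
  have h5 : orderOf x ∣ p ^ k := orderOf_dvd_of_pow_eq_one hk'
  have h6 : orderOf x = 1 := Nat.eq_one_of_dvd_coprimes (Nat.Coprime.pow_right k hxo) dvd_rfl h5
  exact orderOf_eq_one_iff.1 h6

/-- For `Q ≤ L` with `O_p(L) ≠ 1`: `L` has characteristic `p`. -/
theorem chP (h : LargeP p Q) {L : Subgroup G} (hQL : Q ≤ L) (hL : pCoreOf p L ≠ ⊥) : ChP p L := by
  refine le_pCoreOf inf_le_left ?_ (isPGroup_mono inf_le_right (h.isPGroup_centralizer hQL hL))
  refine le_trans ?_ (norm_inf_le _ _)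
  exact le_inf le_normalizer ((le_norm_pCoreOf p L).trans (norm_le_norm_centralizer _))

/-- For `Q ≤ S ≤ L`, `S` Sylow in `G`, `O_p(L) ≠ 1`: `L ∈ 𝓛_G`. -/
theorem mem_charPSubgroups (h : LargeP p Q) {L : Subgroup G} (S : Sylow p G) (hQS : Q ≤ (S : Subgroup G))
    (hSL : (S : Subgroup G) ≤ L) (hL : pCoreOf p L ≠ ⊥) : L ∈ charPSubgroups p G := by
  have hQL := hQS.trans hSL
  rw [H229.mem_charPSubgroups]
  refine ⟨hL, ?_⟩
  set C := centralizer (pCoreOf p L : Set G) with hC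
  have hCp := h.isPGroup_centralizer hQL hL
  have hLC : L ≤ normalizer (C : Set G) := (le_norm_pCoreOf p L).trans (norm_le_norm_centralizer _)
  have h1 : IsPGroup p ↥(C ⊔ S : Subgroup G) := isPGroup_sup_of_norm hCp S.2 (hSL.trans hLC)
  have h2 : C ⊔ S = S := S.3 h1 le_sup_right
  have h3 : C ≤ L := (sup_eq_right.1 h2).trans hSL
  exact le_pCoreOf h3 hLC hCp

end LargeP

end Cfsg.Agent.H229
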