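import Cfsg.Agent.H229.Base
import Cfsg.Agent.S0600
import Cfsg.Agent.S0601

/-!
# `p`-reduced normal subgroups and `Y_L` inside an ambient group

`PRed p V L`: `V` is a `p`-reduced normal subgroup of `L` (everything inside an ambient group `G`).
`largestPReducedOf p L` is the largest one.
-/

set_option autoImplicit false
open Cfsg Subgroup
open Cfsg.Agent.H230

namespace Cfsg.Agent.H229

variable {G : Type*} [Group G]

/-- `V` is a `p`-reduced normal subgroup of `L`, in the ambient group. -/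
def PRed (p : ℕ) (V L : Subgroup G) : Prop :=
  V ≤ L ∧ L ≤ normalizer (V : Set G) ∧ IsElementaryAbelian p V ∧
    ∀ B : Subgroup G, B ≤ L → L ≤ normalizer (B : Set G) →
      (∀ b ∈ B, ∃ k : ℕ, b ^ p ^ k ∈ centralizer (V : Set G)) → B ≤ centralizer (V : Set G)

theorem ea_map {H : Type*} [Group H] {p : ℕ} {A : Subgroup G} (h : IsElementaryAbelian p A) (f : G →* H) :
    IsElementaryAbelian p (A.map f) := by
  obtain ⟨h1, h2⟩ := h
  refine ⟨⟨⟨?_⟩⟩, ?_⟩
  · rintro ⟨_, a, ha, rfl⟩ ⟨_, b, hb, rfl⟩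
    apply Subtype.ext
    have := congrArg Subtype.val (h1.is_comm.comm (⟨a, ha⟩ : ↥A) ⟨b, hb⟩)
    have h3 : a * b = b * a := this
    show f a * f b = f b * f a
    rw [← map_mul, h3, map_mul]
  · rintro _ ⟨a, ha, rfl⟩
    rw [← map_pow, h2 a ha, map_one]

theorem ea_comm {p : ℕ} {A : Subgroup G} (h : IsElementaryAbelian p A) {a b : G} (ha : a ∈ A)
    (hb : b ∈ A) : a * b = b * a := by
  have := congrArg Subtype.val (h.1.is_comm.comm (⟨a, ha⟩ : ↥A) ⟨b, hb⟩)
  exact this

theorem ea_of_comm {p : ℕ} {A : Subgroup G} (h : ∀ a ∈ A, ∀ b ∈ A, a * b = b * a)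
    (h2 : ∀ a ∈ A, a ^ p = 1) : IsElementaryAbelian p A :=
  ⟨⟨⟨fun a b => Subtype.ext (h a a.2 b b.2)⟩⟩, h2⟩

theorem ea_mono {p : ℕ} {A B : Subgroup G} (h : IsElementaryAbelian p B) (hAB : A ≤ B) :
    IsElementaryAbelian p A :=
  ea_of_comm (fun _ ha _ hb => ea_comm h (hAB ha) (hAB hb)) fun _ ha => h.2 _ (hAB ha)

theorem ea_le_centralizer {p : ℕ} {A : Subgroup G} (h : IsElementaryAbelian p A) :
    A ≤ centralizer (A : Set G) := by
  intro a ha
  rw [mem_centralizer_iff]
  exact fun b hb => ea_comm h hb ha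

theorem ea_isPGroup {p : ℕ} {A : Subgroup G} (h : IsElementaryAbelian p A) : IsPGroup p ↥A := by
  intro a
  refine ⟨1, Subtype.ext ?_⟩
  simpa using h.2 a a.2

theorem ea_of_map {H : Type*} [Group H] {p : ℕ} {A : Subgroup G} {f : G →* H}
    (hf : Function.Injective f) (h : IsElementaryAbelian p (A.map f)) : IsElementaryAbelian p A := by
  refine ea_of_comm ?_ ?_
  · intro a ha b hb
    apply hf
    rw [map_mul, map_mul]
    exact ea_comm h ⟨a, ha, rfl⟩ ⟨b, hb, rfl⟩
  · intro a ha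
    apply hf
    rw [map_pow, map_one]
    exact h.2 _ ⟨a, ha, rfl⟩

/-- the elements `x` of the centre of `P` with `x ^ p = 1`. -/
def zOmega (p : ℕ) (P : Subgroup G) : Subgroup G where
  carrier := {x | x ∈ P ∧ x ∈ centralizer (P : Set G) ∧ x ^ p = 1}
  one_mem' := ⟨one_mem _, one_mem _, one_pow _⟩
  mul_mem' := by
    rintro a b ⟨ha, hac, hap⟩ ⟨hb, hbc, hbp⟩
    refine ⟨mul_mem ha hb, mul_mem hac hbc, ?_⟩
    have hab : Commute a b := (mem_centralizer_iff.1 hbc a ha)
    rw [hab.mul_pow, hap, hbp, one_mul]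
  inv_mem' := by
    rintro a ⟨ha, hac, hap⟩
    exact ⟨inv_mem ha, inv_mem hac, by rw [inv_pow, hap, inv_one]⟩

theorem mem_zOmega {p : ℕ} {P : Subgroup G} {x : G} :
    x ∈ zOmega p P ↔ x ∈ P ∧ x ∈ centralizer (P : Set G) ∧ x ^ p = 1 := Iff.rfl

theorem ea_zOmega (p : ℕ) (P : Subgroup G) : IsElementaryAbelian p (zOmega p P) :=
  ea_of_comm (fun _ ha _ hb => mem_centralizer_iff.1 hb.2.1 _ ha.1) fun _ ha => ha.2.2

theorem norm_le_norm_zOmega (p : ℕ) (P : Subgroup G) :
    normalizer (P : Set G) ≤ normalizer (zOmega p P : Set G) := by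
  rw [le_norm_iff]
  rintro g hg x ⟨h1, h2, h3⟩
  refine ⟨?_, ?_, by rw [conj_pow, h3]; simp⟩
  · exact (le_norm_iff.1 (le_refl (normalizer (P : Set G)))) g hg x h1
  · exact (le_norm_iff.1 (norm_le_norm_centralizer P)) g hg x h2

/-! ### The two versions of `p`-reduced -/

theorem normal_map_iff {L : Subgroup G} {W : Subgroup ↥L} :
    W.Normal ↔ L ≤ normalizer ((W.map L.subtype : Subgroup G) : Set G) := by
  rw [← normal_subgroupOf_iff_le_normalizer (Subgroup.map_subtype_le W), Subgroup.subgroupOf,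
    Subgroup.comap_map_eq_self_of_injective L.subtype_injective]

theorem mem_centralizer_map {L : Subgroup G} {W : Subgroup ↥L} {x : ↥L} :
    x ∈ centralizer (W : Set ↥L) ↔ (x : G) ∈ centralizer ((W.map L.subtype : Subgroup G) : Set G) := by
  rw [mem_centralizer_iff, mem_centralizer_iff]
  constructor
  · rintro h _ ⟨y, hy, rfl⟩
    exact congrArg Subtype.val (h y hy)
  · intro h y hy
    exact Subtype.ext (h y ⟨y, hy, rfl⟩)

theorem isPReducedNormal_iff {p : ℕ} {L : Subgroup G} {W : Subgroup ↥L} :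
    IsPReducedNormal p W ↔ PRed p (W.map L.subtype) L := by
  constructor
  · rintro ⟨h1, h2, hn, h3⟩
    refine ⟨Subgroup.map_subtype_le W, normal_map_iff.1 h1, ea_map h2 _, ?_⟩
    intro B hBL hLB hB
    have hBn : (B.subgroupOf L).Normal := (normal_subgroupOf_iff_le_normalizer hBL).2 hLB
    have h4 : ((B.subgroupOf L).map (QuotientGroup.mk' (centralizer (W : Set ↥L)))) ≤
        pCore p (↥L ⧸ centralizer (W : Set ↥L)) := by
      apply Lib.Cores.le_pCore
      · exact hBn.map _ (QuotientGroup.mk'_surjective _)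
      · rintro ⟨_, b, hb, rfl⟩
        obtain ⟨k, hk⟩ := hB b (mem_subgroupOf.1 hb)
        refine ⟨k, Subtype.ext ?_⟩
        show (QuotientGroup.mk' (centralizer (W : Set ↥L)) b) ^ p ^ k = 1
        rw [← map_pow, QuotientGroup.mk'_apply, QuotientGroup.eq_one_iff, mem_centralizer_map]
        simpa using hk
    rw [h3, le_bot_iff] at h4
    intro b hb
    have h5 : QuotientGroup.mk' (centralizer (W : Set ↥L)) (⟨b, hBL hb⟩ : ↥L) ∈
        ((B.subgroupOf L).map (QuotientGroup.mk' (centralizer (W : Set ↥L)))) :=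
      ⟨⟨b, hBL hb⟩, mem_subgroupOf.2 hb, rfl⟩
    rw [h4, mem_bot, QuotientGroup.mk'_apply, QuotientGroup.eq_one_iff, mem_centralizer_map] at h5
    exact h5
  · rintro ⟨_, h1, h2, h3⟩
    have hW : W.Normal := normal_map_iff.2 h1
    refine ⟨hW, ea_of_map L.subtype_injective h2, inferInstance, ?_⟩
    refine sSup_eq_bot.2 ?_
    rintro N ⟨hN, hNp⟩
    have h4 := h3 ((N.comap (QuotientGroup.mk' (centralizer (W : Set ↥L)))).map L.subtype)
      (Subgroup.map_subtype_le _) ?_ ?_
    · rw [Subgroup.eq_bot_iff_forall]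
      intro q hq
      obtain ⟨x, rfl⟩ := QuotientGroup.mk_surjective q
      rw [QuotientGroup.eq_one_iff, mem_centralizer_map]
      exact h4 ⟨x, hq, rfl⟩
    · rw [← normal_map_iff]
      exact hN.comap _
    · rintro _ ⟨x, hx, rfl⟩
      obtain ⟨k, hk⟩ := hNp ⟨_, hx⟩
      refine ⟨k, ?_⟩
      have h5 : (QuotientGroup.mk' (centralizer (W : Set ↥L)) x) ^ p ^ k = 1 := congrArg Subtype.val hk
      rw [← map_pow, QuotientGroup.mk'_apply, QuotientGroup.eq_one_iff, mem_centralizer_map] at h5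
      simpa using h5

theorem le_largest {p : ℕ} {V L : Subgroup G} (h : PRed p V L) : V ≤ largestPReducedOf p L := by
  have h1 : (V.subgroupOf L).map L.subtype = V := by
    rw [Subgroup.subgroupOf_map_subtype, inf_eq_left.2 h.1]
  have h2 : IsPReducedNormal p (V.subgroupOf L) := by rw [isPReducedNormal_iff, h1]; exact h
  rw [← h1]
  exact Subgroup.map_mono (le_sSup h2)

theorem largest_le {p : ℕ} {L K : Subgroup G} (h : ∀ V, PRed p V L → V ≤ K) :
    largestPReducedOf p L ≤ K := by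
  unfold largestPReducedOf largestPReduced
  rw [Subgroup.map_le_iff_le_comap]
  refine sSup_le fun W hW => ?_
  rw [← Subgroup.map_le_iff_le_comap]
  exact h _ (isPReducedNormal_iff.1 hW)

/-! ### Basic properties of `Y_L` -/

theorem largest_le_self (p : ℕ) (L : Subgroup G) : largestPReducedOf p L ≤ L :=
  Subgroup.map_subtype_le _

theorem PRed.pCoreOf_le {p : ℕ} {V L : Subgroup G} (h : PRed p V L) :
    pCoreOf p L ≤ centralizer (V : Set G) := by
  refine h.2.2.2 _ (H229.pCoreOf_le p L) (le_norm_pCoreOf p L) ?_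
  intro b hb
  obtain ⟨k, hk⟩ := isPGroup_pCoreOf p L ⟨b, hb⟩
  have hk' : b ^ p ^ k = 1 := congrArg Subtype.val hk
  exact ⟨k, by rw [hk']; exact one_mem _⟩

theorem PRed.le_pCoreOf {p : ℕ} {V L : Subgroup G} (h : PRed p V L) : V ≤ pCoreOf p L :=
  H229.le_pCoreOf h.1 h.2.1 (ea_isPGroup h.2.2.1)

theorem PRed.le_zOmega {p : ℕ} {V L : Subgroup G} (h : PRed p V L) : V ≤ zOmega p (pCoreOf p L) :=
  fun x hx => ⟨h.le_pCoreOf hx, le_centralizer_comm h.pCoreOf_le hx, h.2.2.1.2 x hx⟩

theorem largest_le_zOmega (p : ℕ) (L : Subgroup G) : largestPReducedOf p L ≤ zOmega p (pCoreOf p L) :=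
  largest_le fun _ hV => hV.le_zOmega

theorem largest_normal (p : ℕ) (L : Subgroup G) : L ≤ normalizer (largestPReducedOf p L : Set G) := by
  have : (largestPReduced p ↥L).Normal := Lib.Cores.sSup_normal _ fun N hN => hN.1
  exact normal_map_iff.1 this

/-- `Y_L` is itself `p`-reduced. -/
theorem pRed_largest (p : ℕ) (L : Subgroup G) : PRed p (largestPReducedOf p L) L := by
  refine ⟨largest_le_self p L, largest_normal p L, ea_mono (ea_zOmega p _) (largest_le_zOmega p L), ?_⟩
  intro B hBL hLB hB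
  apply le_centralizer_comm
  apply largest_le
  intro V hV
  apply le_centralizer_comm
  refine hV.2.2.2 B hBL hLB fun b hb => ?_
  obtain ⟨k, hk⟩ := hB b hb
  exact ⟨k, centralizer_le (le_largest hV) hk⟩

theorem largest_ea (p : ℕ) (L : Subgroup G) : IsElementaryAbelian p (largestPReducedOf p L) :=
  (pRed_largest p L).2.2.1

theorem pCoreOf_le_centralizer_largest (p : ℕ) (L : Subgroup G) :
    pCoreOf p L ≤ centralizer (largestPReducedOf p L : Set G) := (pRed_largest p L).pCoreOf_le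

theorem largest_le_pCoreOf (p : ℕ) (L : Subgroup G) : largestPReducedOf p L ≤ pCoreOf p L :=
  (pRed_largest p L).le_pCoreOf

theorem PRed.cj {p : ℕ} {V L : Subgroup G} (h : PRed p V L) (g : G) : PRed p (cj g V) (H229.cj g L) := by
  obtain ⟨h1, h2, h3, h4⟩ := h
  refine ⟨cj_mono h1, ?_, ea_map h3 _, ?_⟩
  · rw [← cj_normalizer]; exact cj_mono h2
  · intro B hBL hLB hB
    rw [← cj_centralizer, le_cj_iff]
    apply h4
    · rwa [← le_cj_iff]
    · rw [← cj_normalizer, le_cj_iff, inv_inv]; exact hLB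
    · intro b hb
      rw [mem_cj, inv_inv] at hb
      obtain ⟨k, hk⟩ := hB _ hb
      refine ⟨k, ?_⟩
      rw [conj_pow, ← cj_centralizer, conj_mem_cj_iff] at hk
      exact hk

theorem largest_cj (p : ℕ) (g : G) (L : Subgroup G) :
    largestPReducedOf p (cj g L) = cj g (largestPReducedOf p L) := by
  apply le_antisymm
  · apply largest_le
    intro V hV
    have h1 := hV.cj g⁻¹
    rw [cj_inv_cj] at h1
    rw [le_cj_iff]
    exact le_largest h1
  · exact le_largest ((pRed_largest p L).cj g)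

theorem norm_le_norm_largest (p : ℕ) (L : Subgroup G) :
    normalizer (L : Set G) ≤ normalizer (largestPReducedOf p L : Set G) := by
  intro x hx
  rw [mem_norm, ← largest_cj, mem_norm.1 hx]

/-! ### `Z_L ≤ Y_L` -/

theorem isPReducedNormal_zl {H : Type*} [Group H] [Finite H] {p : ℕ} [Fact p.Prime]
    (hc : centralizer (pCore p H : Set H) ≤ pCore p H) :
    IsPReducedNormal p (⨆ S : Sylow p H, omegaOne p (((S : Subgroup H)) ⊓ centralizer ((S : Subgroup H) : Set H))) := by
  obtain ⟨h1, h2, _⟩ := S0601.result hc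
  refine ⟨h1, h2, inferInstance, ?_⟩
  apply S0600.result _ h2
  apply le_antisymm
  · refine iSup_mono fun S => le_inf ?_ ?_
    · exact le_iSup (fun S : Sylow p H => omegaOne p (((S : Subgroup H)) ⊓ centralizer ((S : Subgroup H) : Set H))) S
    · exact (omegaOne_le _ _).trans inf_le_right
  · exact iSup_le fun S => inf_le_left

/-- `Ω₁(Z(T)) ≤ Y_L` for a Sylow `p`-subgroup `T` of `L` of characteristic `p`. -/
theorem omegaOne_le_largest [Finite G] {p : ℕ} [Fact p.Prime] {T L : Subgroup G} (hL : ChP p L)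
    (hT : IsSylowOf p T L) : omegaOne p (T ⊓ centralizer (T : Set G)) ≤ largestPReducedOf p L := by
  obtain ⟨P, rfl⟩ := hT
  have h1 := isPReducedNormal_zl (chP_iff.1 hL)
  have h2 : omegaOne p ((P : Subgroup ↥L) ⊓ centralizer ((P : Subgroup ↥L) : Set ↥L)) ≤ largestPReduced p ↥L :=
    le_trans (le_iSup (fun S : Sylow p ↥L => omegaOne p (((S : Subgroup ↥L)) ⊓
      centralizer ((S : Subgroup ↥L) : Set ↥L))) P) (le_sSup h1)
  refine le_trans ?_ (Subgroup.map_mono (f := L.subtype) h2)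
  unfold omegaOne
  rw [closure_le]
  rintro x ⟨⟨⟨y, hy, rfl⟩, hxc⟩, hxp⟩
  refine ⟨y, subset_closure ⟨⟨hy, ?_⟩, ?_⟩, rfl⟩
  · exact mem_centralizer_map.2 hxc
  · exact Subtype.ext (by simpa using hxp)

theorem largest_ne_bot [Finite G] {p : ℕ} [Fact p.Prime] {L : Subgroup G} (hL : ChP p L)
    (h1 : pCoreOf p L ≠ ⊥) : largestPReducedOf p L ≠ ⊥ := by
  obtain ⟨T, hT⟩ := exists_isSylowOf (p := p) L
  have hT1 : T ≠ ⊥ := by
    rintro rfl
    exact h1 (le_bot_iff.1 (pCoreOf_le_of_isSylowOf hT))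
  intro h
  exact omegaOne_center_ne_bot hT.isPGroup hT1 (le_bot_iff.1 (h ▸ omegaOne_le_largest hL hT))

/-! ### A criterion -/

/-- if all elements of `B` have a `p`-power power centralizing `V` then `O^p(B)` centralizes `V`. -/
theorem resOf_le_centralizer [Finite G] {p : ℕ} [Fact p.Prime] {B V : Subgroup G}
    (h : ∀ b ∈ B, ∃ k : ℕ, b ^ p ^ k ∈ centralizer (V : Set G)) : resOf p B ≤ centralizer (V : Set G) := by
  rw [resOf_eq_closure, closure_le]
  rintro x ⟨hx, hxo⟩
  obtain ⟨k, hk⟩ := h x hx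
  have h1 : (orderOf x).Coprime (p ^ k) := Nat.Coprime.pow_right k hxo
  have h2 : x ∈ zpowers (x ^ p ^ k) := by
    rw [mem_zpowers_pow_iff]
    simpa [Nat.coprime_comm] using h1.symm
  exact (zpowers_le.2 hk) h2

/-- `B = O^p(B) T₀` centralizes `W` as soon as the Sylow subgroup `T₀` does. -/
theorem le_centralizer_of_sylow [Finite G] {p : ℕ} [Fact p.Prime] {B V W T : Subgroup G} (hWV : W ≤ V)
    (h : ∀ b ∈ B, ∃ k : ℕ, b ^ p ^ k ∈ centralizer (V : Set G)) (hT : IsSylowOf p T B)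
    (hTW : T ≤ centralizer (W : Set G)) : B ≤ centralizer (W : Set G) := by
  rw [← hT.resOf_sup]
  exact sup_le ((resOf_le_centralizer h).trans (centralizer_le hWV)) hTW

end Cfsg.Agent.H229
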